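import Groth.Prelude.Def_CAlg
import Groth.Agent.GorLib.ExtReesSk
import Groth.Agent.DepthLib.Sk
import Mathlib.AlgebraicGeometry.ProjectiveSpectrum.Basic

/-!
Serre's condition `(S_1)` for the degree zero part of a homogeneous localization.
-/

set_option autoImplicit false
set_option linter.style.haveILetI false
universe u

open DirectSum HomogeneousLocalization

namespace Groth.Agent.ProjS1

variable {A : Type u} [CommRing A] (𝒜 : ℕ → AddSubgroup A) [GradedRing 𝒜] (p : Ideal A) [p.IsPrime]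

/-- The inclusion of the degree zero part. -/
noncomputable abbrev ι : AtPrime 𝒜 p →+* Localization.AtPrime p where
  toFun := val
  map_one' := val_one
  map_mul' := val_mul
  map_zero' := val_zero
  map_add' := val_add

theorem comap_map_le (I : Ideal (AtPrime 𝒜 p)) : (I.map (ι 𝒜 p)).comap (ι 𝒜 p) ≤ I := by
  classical
  let B := AtPrime 𝒜 p
  let L := Localization.AtPrime p
  intro z hz
  let mkB : ∀ (n : ℕ) (c t : A), c ∈ 𝒜 n → t ∈ 𝒜 n → t ∉ p → B :=
    fun n c t hc ht htp => HomogeneousLocalization.mk ⟨n, ⟨c, hc⟩, ⟨t, ht⟩, htp⟩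
  have hval : ∀ n c t hc ht htp, (mkB n c t hc ht htp).val = Localization.mk c ⟨t, htp⟩ :=
    fun n c t hc ht htp => HomogeneousLocalization.val_mk _
  let G : Set A := {c | ∃ (n : ℕ) (t : A) (hc : c ∈ 𝒜 n) (ht : t ∈ 𝒜 n) (htp : t ∉ p), mkB n c t hc ht htp ∈ I}
  let P : ℕ → A → Prop := fun n x => ∀ (m : ℕ) (a : A), a ∈ 𝒜 m → ∀ (hx : a * x ∈ 𝒜 (m + n)) (t : A)
    (ht : t ∈ 𝒜 (m + n)) (htp : t ∉ p), mkB (m + n) (a * x) t hx ht htp ∈ I
  have hP : ∀ e ∈ Ideal.span G, ∀ n, P n (DirectSum.decompose 𝒜 e n : A) := by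
    intro e he
    induction he using Submodule.span_induction with
    | mem c hc =>
      intro n
      obtain ⟨d, t₀, hcd, ht₀, ht₀p, hI⟩ := hc
      intro m a ha hx t ht htp
      rcases eq_or_ne d n with rfl | hne
      · have : mkB (m + d) (a * (DirectSum.decompose 𝒜 c d : A)) t hx ht htp =
            mkB (m + d) (a * t₀) t (SetLike.mul_mem_graded ha ht₀) ht htp * mkB d c t₀ hcd ht₀ ht₀p := by
          refine val_injective _ ?_
          rw [val_mul, hval, hval, hval, Localization.mk_mul, Localization.mk_eq_mk_iff, Localization.r_iff_exists]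
          refine ⟨1, ?_⟩
          simp only [DirectSum.decompose_of_mem_same 𝒜 hcd, Submonoid.coe_mul, OneMemClass.coe_one]
          ring
        rw [this]
        exact I.mul_mem_left _ hI
      · have h0 : a * (DirectSum.decompose 𝒜 c n : A) = 0 := by
          rw [DirectSum.decompose_of_mem_ne 𝒜 hcd hne, mul_zero]
        have : mkB (m + n) (a * (DirectSum.decompose 𝒜 c n : A)) t hx ht htp = 0 :=
          mk_eq_zero_of_num _ (Subtype.ext h0)
        rw [this]; exact zero_mem I
    | zero =>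
      intro n m a ha hx t ht htp
      have : mkB (m + n) (a * (DirectSum.decompose 𝒜 (0 : A) n : A)) t hx ht htp = 0 :=
        mk_eq_zero_of_num _ (Subtype.ext (by simp))
      rw [this]; exact zero_mem I
    | add e₁ e₂ _ _ h₁ h₂ =>
      intro n m a ha hx t ht htp
      have e : mkB (m + n) (a * (DirectSum.decompose 𝒜 (e₁ + e₂) n : A)) t hx ht htp =
          mkB (m + n) _ t (SetLike.mul_mem_graded ha (DirectSum.decompose 𝒜 e₁ n).2) ht htp +
          mkB (m + n) _ t (SetLike.mul_mem_graded ha (DirectSum.decompose 𝒜 e₂ n).2) ht htp := by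
        refine val_injective _ ?_
        rw [val_add, hval, hval, hval, Localization.add_mk_self]
        congr 1
        simp [mul_add]
      rw [e]
      exact add_mem (h₁ n m a ha _ t ht htp) (h₂ n m a ha _ t ht htp)
    | smul r e _ h =>
      -- reduce to a homogeneous scalar
      have hom : ∀ (i : ℕ) (r : A), r ∈ 𝒜 i → ∀ n, P n (DirectSum.decompose 𝒜 (r * e) n : A) := by
        intro i r hr n m a ha hx t ht htp
        by_cases hin : i ≤ n
        · have e2 : a * (DirectSum.decompose 𝒜 (r * e) n : A) = a * r * (DirectSum.decompose 𝒜 e (n - i) : A) := by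
            rw [DirectSum.coe_decompose_mul_of_left_mem_of_le 𝒜 hr hin, mul_assoc]
          have := h (n - i) (m + i) (a * r) (SetLike.mul_mem_graded ha hr)
            (SetLike.mul_mem_graded (SetLike.mul_mem_graded ha hr) (DirectSum.decompose 𝒜 e (n - i)).2) t
            (by rwa [show m + i + (n - i) = m + n by omega]) htp
          convert this using 1
          exact val_injective _ (by rw [hval, hval, e2])
        · have h0 : a * (DirectSum.decompose 𝒜 (r * e) n : A) = 0 := by
            rw [DirectSum.coe_decompose_mul_of_left_mem_of_not_le 𝒜 hr hin, mul_zero]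
          have : mkB (m + n) (a * (DirectSum.decompose 𝒜 (r * e) n : A)) t hx ht htp = 0 :=
            mk_eq_zero_of_num _ (Subtype.ext h0)
          rw [this]; exact zero_mem I
      intro n m a ha hx t ht htp
      have hdec : (DirectSum.decompose 𝒜 (r • e) n : A) =
          ∑ i ∈ (DirectSum.decompose 𝒜 r).support, (DirectSum.decompose 𝒜 ((DirectSum.decompose 𝒜 r i : A) * e) n : A) := by
        conv_lhs => rw [smul_eq_mul, ← DirectSum.sum_support_decompose 𝒜 r, Finset.sum_mul, DirectSum.decompose_sum]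
        rw [DFinsupp.finsetSum_apply, AddSubmonoidClass.coe_finsetSum]
      suffices H : ∀ S : Finset ℕ, ∀ (x : A) (hx : a * x ∈ 𝒜 (m + n)),
          x = ∑ i ∈ S, (DirectSum.decompose 𝒜 ((DirectSum.decompose 𝒜 r i : A) * e) n : A) →
            mkB (m + n) (a * x) t hx ht htp ∈ I from H _ _ hx hdec
      intro S
      induction S using Finset.induction_on with
      | empty =>
        intro x hx' hx0
        have : mkB (m + n) (a * x) t hx' ht htp = 0 := mk_eq_zero_of_num _ (Subtype.ext (by simp [hx0]))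
        rw [this]; exact zero_mem I
      | insert i S hi ih =>
        intro x hx' hxs
        rw [Finset.sum_insert hi] at hxs
        have hmem : a * ∑ j ∈ S, (DirectSum.decompose 𝒜 ((DirectSum.decompose 𝒜 r j : A) * e) n : A) ∈ 𝒜 (m + n) :=
          SetLike.mul_mem_graded ha (sum_mem fun j _ => Subtype.prop _)
        have e3 : mkB (m + n) (a * x) t hx' ht htp =
            mkB (m + n) _ t (SetLike.mul_mem_graded ha (DirectSum.decompose 𝒜 ((DirectSum.decompose 𝒜 r i : A) * e) n).2)
              ht htp + mkB (m + n) _ t hmem ht htp := by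
          refine val_injective _ ?_
          rw [val_add, hval, hval, hval, Localization.add_mk_self, hxs, mul_add]
        rw [e3]
        exact add_mem (hom i _ (Subtype.prop _) n m a ha _ t ht htp) (ih _ hmem rfl)
  have hIG : I.map (ι 𝒜 p) ≤ (Ideal.span G).map (algebraMap A L) := by
    refine Ideal.map_le_iff_le_comap.2 fun b hb => ?_
    obtain ⟨⟨n, ⟨c, hc⟩, ⟨t, ht⟩, htp⟩, rfl⟩ := mk_surjective b
    rw [Ideal.mem_comap]
    show (mkB n c t hc ht htp).val ∈ _
    rw [hval, Localization.mk_eq_mk', IsLocalization.mk'_eq_mul_mk'_one]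
    exact Ideal.mul_mem_right _ _ (Ideal.mem_map_of_mem _ (Ideal.subset_span ⟨n, t, hc, ht, htp, hb⟩))
  obtain ⟨⟨n, ⟨c, hc⟩, ⟨t, ht⟩, htp⟩, rfl⟩ := mk_surjective z
  have h1 := hIG hz
  replace h1 : Localization.mk c ⟨t, htp⟩ ∈ (Ideal.span G).map (algebraMap A L) := by
    rw [← hval n c t hc ht htp]; exact h1
  rw [IsLocalization.mem_map_algebraMap_iff p.primeCompl] at h1
  obtain ⟨⟨⟨a, ha⟩, s⟩, hs⟩ := h1
  rw [Localization.mk_eq_mk', ← IsLocalization.mk'_one (M := p.primeCompl) L (s : A),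
    ← IsLocalization.mk'_one (M := p.primeCompl) L a, ← IsLocalization.mk'_mul, IsLocalization.mk'_eq_iff_eq,
    IsLocalization.eq_iff_exists p.primeCompl] at hs
  obtain ⟨v, hv⟩ := hs
  simp only [OneMemClass.coe_one, one_mul, mul_one] at hv
  -- a component of the multiplier avoids `p`
  obtain ⟨j, hj⟩ : ∃ j, (DirectSum.decompose 𝒜 ((v : A) * (s : A)) j : A) ∉ p := by
    by_contra h0
    push Not at h0
    refine (mul_mem v.2 s.2 : (v : A) * (s : A) ∈ p.primeCompl) ?_
    rw [← DirectSum.sum_support_decompose 𝒜 ((v : A) * (s : A))]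
    exact sum_mem fun i _ => h0 i
  have hin : (v : A) * (s : A) * c ∈ Ideal.span G := by
    rw [show (v : A) * (s : A) * c = (v : A) * (c * (s : A)) by ring, hv]
    exact Ideal.mul_mem_left _ _ (Ideal.mul_mem_left _ _ ha)
  have h2 := hP _ hin (j + n) 0 1 (SetLike.one_mem_graded 𝒜)
    (SetLike.mul_mem_graded (SetLike.one_mem_graded 𝒜) (Subtype.prop _))
    (1 * ((DirectSum.decompose 𝒜 ((v : A) * (s : A)) j : A) * t))
    (SetLike.mul_mem_graded (SetLike.one_mem_graded 𝒜) (SetLike.mul_mem_graded (Subtype.prop _) ht))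
    (by rw [one_mul]; exact Ideal.IsPrime.mul_notMem ‹_› hj htp)
  convert h2 using 1
  refine val_injective _ ?_
  show (mkB n c t hc ht htp).val = _
  rw [hval, hval, Localization.mk_eq_mk_iff, Localization.r_iff_exists]
  refine ⟨1, ?_⟩
  rw [DirectSum.coe_decompose_mul_of_right_mem_of_le 𝒜 hc (Nat.le_add_left n j), Nat.add_sub_cancel]
  simp only [OneMemClass.coe_one]
  ring

/-- A normal homogeneous localization. -/
theorem isDomain_isIntegrallyClosed [IsDomain (Localization.AtPrime p)] [IsIntegrallyClosed (Localization.AtPrime p)] :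
    IsDomain (AtPrime 𝒜 p) ∧ IsIntegrallyClosed (AtPrime 𝒜 p) := by
  let B := AtPrime 𝒜 p
  let L := Localization.AtPrime p
  have hinj : Function.Injective (ι 𝒜 p) := val_injective p.primeCompl
  haveI : IsDomain B := hinj.isDomain _
  refine ⟨inferInstance, (isIntegrallyClosed_iff (FractionRing B)).2 fun {z} hz => ?_⟩
  obtain ⟨a, b, hb, rfl⟩ := IsFractionRing.div_surjective B z
  let g : FractionRing B →+* FractionRing L :=
    IsFractionRing.lift (g := (algebraMap L (FractionRing L)).comp (ι 𝒜 p))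
      ((IsFractionRing.injective L (FractionRing L)).comp hinj)
  have hg : ∀ c : B, g (algebraMap B (FractionRing B) c) = algebraMap L (FractionRing L) (ι 𝒜 p c) := fun c =>
    IsFractionRing.lift_algebraMap _ c
  have hz' : IsIntegral L (g (algebraMap B (FractionRing B) a / algebraMap B (FractionRing B) b)) := by
    obtain ⟨f, hf, hf0⟩ := hz
    refine ⟨f.map (ι 𝒜 p), hf.map _, ?_⟩
    rw [Polynomial.eval₂_map, ← show g.comp (algebraMap B (FractionRing B)) =
      (algebraMap L (FractionRing L)).comp (ι 𝒜 p) from RingHom.ext hg, ← Polynomial.hom_eval₂, hf0, map_zero]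
  obtain ⟨l, hl⟩ := IsIntegrallyClosed.isIntegral_iff.1 hz'
  have hb0 : ι 𝒜 p b ≠ 0 := fun h => nonZeroDivisors.ne_zero hb (hinj (h.trans (map_zero _).symm))
  rw [map_div₀, hg, hg, eq_div_iff ((map_ne_zero_iff _ (IsFractionRing.injective L (FractionRing L))).2 hb0),
    ← map_mul] at hl
  have hl' := IsFractionRing.injective L (FractionRing L) hl
  have hmem : a ∈ Ideal.span {b} := by
    refine comap_map_le 𝒜 p _ ?_
    rw [Ideal.mem_comap, Ideal.map_span, Set.image_singleton, Ideal.mem_span_singleton']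
    exact ⟨l, hl'⟩
  obtain ⟨c, hc⟩ := Ideal.mem_span_singleton'.1 hmem
  refine ⟨c, ?_⟩
  rw [eq_div_iff ((map_ne_zero_iff _ (IsFractionRing.injective B (FractionRing B))).2 (nonZeroDivisors.ne_zero hb)),
    ← map_mul, hc]

theorem isNoetherianRing [IsNoetherianRing A] : IsNoetherianRing (AtPrime 𝒜 p) := by
  classical
  let B := AtPrime 𝒜 p
  let L := Localization.AtPrime p
  have key : ∀ I : Ideal B, (I.map (ι 𝒜 p)).comap (ι 𝒜 p) ≤ I := comap_map_le 𝒜 p
  have hcu : ∀ I : Ideal B, (I.map (ι 𝒜 p)).comap (ι 𝒜 p) = I := fun I => le_antisymm (key I) Ideal.le_comap_map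
  refine isNoetherianRing_iff.2 (monotone_stabilizes_iff_noetherian.1 fun f => ?_)
  haveI : IsNoetherianRing L := IsLocalization.isNoetherianRing p.primeCompl L inferInstance
  obtain ⟨n, hn⟩ := (monotone_stabilizes_iff_noetherian (R := L) (M := L)).2 inferInstance
    ⟨fun i => Ideal.map (ι 𝒜 p) (f i), fun i j hij => Ideal.map_mono (f.monotone hij)⟩
  exact ⟨n, fun m hm => by rw [← hcu (f n), ← hcu (f m)]; exact congrArg _ (hn m hm)⟩

theorem hasSk_one [IsNoetherianRing A] (hA : LocCoh.HasSk 1 A A) (hf : ∃ (d : ℕ) (f : A), 0 < d ∧ f ∈ 𝒜 d ∧ f ∉ p) :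
    LocCoh.HasSk 1 (AtPrime 𝒜 p) (AtPrime 𝒜 p) := by
  classical
  haveI := isNoetherianRing 𝒜 p
  let B := AtPrime 𝒜 p
  let L := Localization.AtPrime p
  haveI : IsNoetherianRing L := IsLocalization.isNoetherianRing p.primeCompl L inferInstance
  have hL : LocCoh.HasSk 1 L L := GorLib.ExtReesSk.hasSk_of_isLocalization p.primeCompl hA
  rw [DepthLib.hasSk_one_iff_minimalPrimes] at hL ⊢
  have hann : ∀ (T : Type u) [CommRing T], Module.annihilator T T = ⊥ := fun T _ =>
    eq_bot_iff.2 fun a ha => by simpa using Module.mem_annihilator.1 ha 1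
  rw [hann] at hL ⊢
  obtain ⟨d, f, hd, hfd, hfp⟩ := hf
  have hmin : ∀ 𝔓 ∈ (⊥ : Ideal L).minimalPrimes, ∀ q : Ideal B, q.IsPrime → q ≤ 𝔓.comap (ι 𝒜 p) →
      𝔓.comap (ι 𝒜 p) ≤ q := by
    intro 𝔓 h𝔓 q hq hle b hb
    haveI := h𝔓.1.1
    obtain ⟨⟨n, ⟨c, hc⟩, ⟨t, ht⟩, htp⟩, rfl⟩ := mk_surjective b
    have hcP : algebraMap A L c ∈ 𝔓 := by
      have h : Localization.mk c ⟨t, htp⟩ ∈ 𝔓 := by
        rw [← HomogeneousLocalization.val_mk ⟨n, ⟨c, hc⟩, ⟨t, ht⟩, htp⟩]; exact hb
      have := 𝔓.mul_mem_right (algebraMap A L t) h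
      rwa [Localization.mk_eq_mk', IsLocalization.mk'_spec] at this
    let P := 𝔓.comap (algebraMap A L)
    have hPmin : P ∈ (⊥ : Ideal A).minimalPrimes := by
      refine ⟨⟨inferInstance, bot_le⟩, fun r hr hrle => ?_⟩
      haveI := hr.1
      have hdisj : Disjoint (p.primeCompl : Set A) (r : Set A) := Set.disjoint_left.2 fun x hx hxr =>
        (inferInstance : 𝔓.IsPrime).ne_top (Ideal.eq_top_of_isUnit_mem _ (hrle hxr)
          (IsLocalization.map_units L (⟨x, hx⟩ : p.primeCompl)))
      haveI := IsLocalization.isPrime_of_isPrime_disjoint p.primeCompl L r inferInstance hdisj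
      calc P ≤ (r.map (algebraMap A L)).comap (algebraMap A L) :=
            Ideal.comap_mono (h𝔓.2 ⟨inferInstance, bot_le⟩ (Ideal.map_le_iff_le_comap.2 hrle))
        _ ≤ r := (IsLocalization.under_map_of_isPrime_disjoint p.primeCompl L inferInstance hdisj).le
    obtain ⟨y, hy, hyc⟩ : ∃ y ∉ P, ∃ m : ℕ, y * c ^ m = 0 := by
      haveI : P.IsPrime := hPmin.1.1
      have hnil : IsNilpotent (algebraMap A (Localization.AtPrime P) c) := by
        refine nilpotent_iff_mem_prime.2 fun Q hQ => ?_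
        have h1 : Q.comap (algebraMap A (Localization.AtPrime P)) ≤ P := fun x hx => by
          by_contra hxP
          exact (inferInstance : Q.IsPrime).ne_top (Ideal.eq_top_of_isUnit_mem _ hx
            (IsLocalization.map_units (Localization.AtPrime P) (⟨x, hxP⟩ : P.primeCompl)))
        exact hPmin.2 ⟨inferInstance, bot_le⟩ h1 hcP
      obtain ⟨m, hm⟩ := hnil
      rw [← map_pow, IsLocalization.map_eq_zero_iff P.primeCompl] at hm
      obtain ⟨y, hy⟩ := hm
      exact ⟨y, y.2, m, hy⟩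
    obtain ⟨m, hm⟩ := hyc
    obtain ⟨j, hj⟩ : ∃ j, (DirectSum.decompose 𝒜 y j : A) ∉ P := by
      by_contra h0
      push Not at h0
      refine hy ?_
      rw [← DirectSum.sum_support_decompose 𝒜 y]
      exact sum_mem fun i _ => h0 i
    have hcm : c ^ m ∈ 𝒜 (m • n) := SetLike.pow_mem_graded m hc
    have hyj : (DirectSum.decompose 𝒜 y j : A) * c ^ m = 0 := by
      have := DirectSum.coe_decompose_mul_of_right_mem_of_le 𝒜 (a := y) hcm (Nat.le_add_left (m • n) j)
      rw [hm, Nat.add_sub_cancel] at this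
      simpa using this.symm
    let yj := (DirectSum.decompose 𝒜 y j : A)
    let b' : B := HomogeneousLocalization.mk ⟨d * j, ⟨yj ^ d, by simpa [yj, smul_eq_mul] using SetLike.pow_mem_graded d (DirectSum.decompose 𝒜 y j).2⟩,
      ⟨f ^ j, by rw [mul_comm]; simpa using SetLike.pow_mem_graded j hfd⟩, Submonoid.pow_mem _ hfp j⟩
    have hb'P : b' ∉ 𝔓.comap (ι 𝒜 p) := fun h => by
      have h' : Localization.mk (yj ^ d) ⟨f ^ j, Submonoid.pow_mem _ hfp j⟩ ∈ 𝔓 := by
        have h2 : b'.val ∈ 𝔓 := h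
        simpa [b', HomogeneousLocalization.val_mk] using h2
      have := 𝔓.mul_mem_right (algebraMap A L (f ^ j)) h'
      rw [Localization.mk_eq_mk', IsLocalization.mk'_spec_mk] at this
      exact hj ((h𝔓.1.1.comap (algebraMap A L)).mem_of_pow_mem d this)
    rcases Nat.eq_zero_or_pos d with h0 | h0
    · omega
    have hzero : b' * (HomogeneousLocalization.mk ⟨n, ⟨c, hc⟩, ⟨t, ht⟩, htp⟩ : B) ^ m = 0 := by
      refine val_injective _ ?_
      rw [val_mul, val_pow, val_zero, HomogeneousLocalization.val_mk, HomogeneousLocalization.val_mk,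
        Localization.mk_pow, Localization.mk_mul]
      rw [show yj ^ d * c ^ m = yj ^ (d - 1) * (yj * c ^ m) by rw [← mul_assoc, ← pow_succ, Nat.sub_add_cancel h0],
        show yj * c ^ m = 0 from hyj, mul_zero, Localization.mk_zero]
    exact hq.mem_of_pow_mem m ((hq.mem_or_mem (hzero ▸ q.zero_mem)).resolve_left fun h => hb'P (hle h))
  intro Q hQ
  haveI := IsAssociatedPrime.isPrime hQ
  obtain ⟨-, φ, hφ⟩ := (isAssociatedPrime_iff_exists_injective_linearMap _ _).1 hQ
  let x : B := φ (Ideal.Quotient.mk Q 1)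
  have hx : Q = LinearMap.ker (LinearMap.toSpanSingleton B B x) := by
    refine Submodule.ext fun b => ?_
    rw [LinearMap.mem_ker, LinearMap.toSpanSingleton_apply, ← map_smul,
      show b • Ideal.Quotient.mk Q 1 = Ideal.Quotient.mk Q b by
        rw [Algebra.smul_def, Ideal.Quotient.algebraMap_eq, ← map_mul, mul_one],
      map_eq_zero_iff φ hφ, Ideal.Quotient.eq_zero_iff_mem]
  let J : Ideal L := LinearMap.ker (LinearMap.toSpanSingleton L L (ι 𝒜 p x))
  have hQJ : Q = J.comap (ι 𝒜 p) := by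
    rw [hx]
    ext b
    simp only [J, Ideal.mem_comap, LinearMap.mem_ker, LinearMap.toSpanSingleton_apply, smul_eq_mul]
    rw [← map_mul, map_eq_zero_iff _ (val_injective p.primeCompl)]
  have hfin := Ideal.finite_minimalPrimes_of_isNoetherianRing L J
  have hQ' : Q = hfin.toFinset.inf (fun 𝔓 => 𝔓.comap (ι 𝒜 p)) := by
    refine le_antisymm (Finset.le_inf fun 𝔓 h𝔓 => hQJ ▸ Ideal.comap_mono (hfin.mem_toFinset.1 h𝔓).1.2) fun b hb => ?_
    have hrad : ι 𝒜 p b ∈ J.radical := by
      rw [← Ideal.sInf_minimalPrimes, Submodule.mem_sInf]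
      exact fun 𝔓 h𝔓 => (Finset.inf_le (f := fun 𝔓 => 𝔓.comap (ι 𝒜 p)) (hfin.mem_toFinset.2 h𝔓)) hb
    obtain ⟨k, hk⟩ := hrad
    refine ‹Q.IsPrime›.mem_of_pow_mem k ?_
    rw [hQJ, Ideal.mem_comap, map_pow]
    exact hk
  obtain ⟨𝔓, h𝔓, hle⟩ := (Ideal.IsPrime.inf_le' ‹Q.IsPrime›).1 hQ'.ge
  have h𝔓J := hfin.mem_toFinset.1 h𝔓
  have h𝔓min : 𝔓 ∈ (⊥ : Ideal L).minimalPrimes := by
    refine hL 𝔓 ?_
    have h1 : J = Module.annihilator L (Submodule.span L {ι 𝒜 p x}) := by
      ext l
      rw [show Module.annihilator L (Submodule.span L {ι 𝒜 p x}) = (Submodule.span L {ι 𝒜 p x}).annihilator from rfl,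
        Submodule.mem_annihilator_span_singleton]
      rfl
    rw [h1] at h𝔓J
    exact associatedPrimes.subset_of_injective (f := (Submodule.span L {ι 𝒜 p x}).subtype)
      (Submodule.injective_subtype _)
      (Module.associatedPrimes.minimalPrimes_annihilator_subset_associatedPrimes L _ h𝔓J)
  have hQeq : Q = 𝔓.comap (ι 𝒜 p) := le_antisymm (hQ'.le.trans (Finset.inf_le h𝔓)) hle
  exact ⟨⟨inferInstance, bot_le⟩, fun q hq hqQ => hQeq ▸ hmin 𝔓 h𝔓min q hq.1 (hQeq ▸ hqQ)⟩

end Groth.Agent.ProjS1
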